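import Groth.Agent.Lib.Constr.Basic
import Mathlib.RingTheory.Spectrum.Prime.ConstructibleSet
import Mathlib.RingTheory.Spectrum.Prime.Topology
import Mathlib.RingTheory.LocalRing.ResidueField.Ideal
import Mathlib.RingTheory.FinitePresentation
import Mathlib.RingTheory.Localization.Away.AdjoinRoot
import Mathlib.RingTheory.Spectrum.Prime.RingHom

/-!
# Constructible topology of a prime spectrum and images of ring maps
-/

universe u

open Topology TopologicalSpace Set

namespace GrothLib.Constr

variable {A B : Type u} [CommRing A] [CommRing B]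

theorem continuous_comap_constructibleTopology (f : A →+* B) :
    @Continuous (PrimeSpectrum B) (PrimeSpectrum A) (constructibleTopology _)
      (constructibleTopology _) (PrimeSpectrum.comap f) := by
  have hc : ∀ U : Set (PrimeSpectrum A), IsOpen U → IsCompact U →
      IsCompact (PrimeSpectrum.comap f ⁻¹' U) := by
    intro U hU hUc
    obtain ⟨s, hs, rfl⟩ := (isCompact_open_iff_eq_finite_iUnion_of_isTopologicalBasis _
      PrimeSpectrum.isTopologicalBasis_basic_opens (fun i => PrimeSpectrum.isCompact_basicOpen i) U).1 ⟨hUc, hU⟩
    simp only [preimage_iUnion]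
    refine hs.isCompact_biUnion fun i _ => ?_
    exact PrimeSpectrum.isCompact_basicOpen (f i)
  refine continuous_generateFrom_iff.2 fun s hs => ?_
  rcases hs with ⟨ho, hcs⟩ | ⟨ho, hcs⟩
  · exact (hc s ho hcs).isOpen_constructibleTopology_of_isOpen
      (ho.preimage (PrimeSpectrum.continuous_comap f))
  · exact IsCompact.isOpen_constructibleTopology_of_isClosed
      (by rw [← preimage_compl]; exact hc _ ho.isOpen_compl hcs)
      (ho.preimage (PrimeSpectrum.continuous_comap f))

theorem isClosed_range_comap (f : A →+* B) :
    IsClosed[constructibleTopology (PrimeSpectrum A)] (range (PrimeSpectrum.comap f)) := by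
  refine @IsCompact.isClosed _ (constructibleTopology _) t2Space_constructibleTopology _ ?_
  exact @isCompact_range _ _ (constructibleTopology _) (constructibleTopology _)
    compactSpace_constructibleTopology _ (continuous_comap_constructibleTopology f)

/-- A closed set of the constructible topology is the image of the spectrum of the product of the
residue fields at its points. -/
theorem range_comap_pi_residueField {E : Set (PrimeSpectrum A)}
    (hE : IsClosed[constructibleTopology (PrimeSpectrum A)] E) :
    range (PrimeSpectrum.comap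
      (RingHom.pi fun x : E => algebraMap A x.1.asIdeal.ResidueField)) = E := by
  classical
  apply subset_antisymm
  · rintro _ ⟨q, rfl⟩
    by_contra hq
    obtain ⟨T, hT, hqT, hTE⟩ := exists_isConstructible_of_isOpen hE.isOpen_compl hq
    obtain ⟨S, rfl⟩ := PrimeSpectrum.exists_constructibleSetData_iff.2 hT
    simp only [PrimeSpectrum.ConstructibleSetData.toSet, mem_iUnion] at hqT
    obtain ⟨C, hC, hqg, hqf⟩ := hqT
    rw [PrimeSpectrum.mem_zeroLocus, range_subset_iff] at hqg
    refine hqf ?_
    rw [PrimeSpectrum.mem_zeroLocus, singleton_subset_iff]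
    let ψ := RingHom.pi fun x : E => algebraMap A x.1.asIdeal.ResidueField
    change ψ C.f ∈ q.asIdeal
    have hx : ∀ x : E, algebraMap A x.1.asIdeal.ResidueField C.f ≠ 0 →
        ∃ i, algebraMap A x.1.asIdeal.ResidueField (C.g i) ≠ 0 := by
      intro x hxf
      by_contra! h0
      refine hTE (mem_iUnion₂.2 ⟨C, hC, ?_, ?_⟩) x.2
      · rw [PrimeSpectrum.mem_zeroLocus, range_subset_iff]
        exact fun i => (Ideal.algebraMap_residueField_eq_zero).1 (h0 i)
      · rw [PrimeSpectrum.mem_zeroLocus, singleton_subset_iff]
        exact fun h => hxf ((Ideal.algebraMap_residueField_eq_zero).2 h)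
    choose i hi using hx
    let c : Fin C.n → ∀ x : E, x.1.asIdeal.ResidueField := fun j x =>
      if h : algebraMap A x.1.asIdeal.ResidueField C.f ≠ 0 then
        if i x h = j then algebraMap A _ C.f / algebraMap A _ (C.g j) else 0
      else 0
    have hsum : ψ C.f = ∑ j, c j * ψ (C.g j) := by
      funext x
      simp only [Finset.sum_apply, Pi.mul_apply, ψ, RingHom.pi_apply, c]
      by_cases h : algebraMap A x.1.asIdeal.ResidueField C.f ≠ 0
      · simp only [dif_pos h, ite_mul, zero_mul, Finset.sum_ite_eq, Finset.mem_univ, if_true]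
        rw [div_mul_cancel₀ _ (hi x h)]
      · simp only [dif_neg h, zero_mul, Finset.sum_const_zero]
        exact not_not.1 h
    rw [hsum]
    exact sum_mem fun j _ => Ideal.mul_mem_left _ _ (hqg j)
  · intro x hx
    refine ⟨PrimeSpectrum.comap (Pi.evalRingHom (fun y : E => y.1.asIdeal.ResidueField) ⟨x, hx⟩) ⊥, ?_⟩
    refine PrimeSpectrum.ext ?_
    rw [← PrimeSpectrum.comap_comp_apply]
    ext a
    simp [Ideal.algebraMap_residueField_eq_zero]

theorem exists_range_comap_eq_iff {E : Set (PrimeSpectrum A)} :
    (∃ (B : Type u) (_ : CommRing B) (f : A →+* B), range (PrimeSpectrum.comap f) = E) ↔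
      IsClosed[constructibleTopology (PrimeSpectrum A)] E :=
  ⟨fun ⟨_, _, f, hf⟩ => hf ▸ isClosed_range_comap f,
    fun hE => ⟨_, inferInstance, _, range_comap_pi_residueField hE⟩⟩

/-- A constructible subset of a spectrum is a finite union of images of spectra of finitely
presented algebras. -/
theorem exists_finitePresentation_range_eq {E : Set (PrimeSpectrum A)} (hE : IsConstructible E) :
    ∃ (ι : Type) (_ : Finite ι) (S : ι → Type u) (_ : ∀ i, CommRing (S i))
      (f : ∀ i, A →+* S i), (∀ i, (f i).FinitePresentation) ∧
        ⋃ i, range (PrimeSpectrum.comap (f i)) = E := by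
  obtain ⟨s, rfl⟩ := PrimeSpectrum.exists_constructibleSetData_iff.2 hE
  let e := s.equivFin
  refine ⟨Fin s.card, inferInstance, fun i => Localization.Away
      (Ideal.Quotient.mk (Ideal.span (range (e.symm i).1.g)) (e.symm i).1.f), fun i => inferInstance,
    fun i => algebraMap _ _, fun i => ?_, ?_⟩
  · haveI : Algebra.FinitePresentation A (A ⧸ Ideal.span (range (e.symm i).1.g)) :=
      Algebra.FinitePresentation.quotient (Submodule.fg_span (finite_range _))
    haveI : Algebra.FinitePresentation (A ⧸ Ideal.span (range (e.symm i).1.g)) (Localization.Away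
        (Ideal.Quotient.mk (Ideal.span (range (e.symm i).1.g)) (e.symm i).1.f)) :=
      IsLocalization.Away.finitePresentation
        (Ideal.Quotient.mk (Ideal.span (range (e.symm i).1.g)) (e.symm i).1.f)
    exact RingHom.finitePresentation_algebraMap.2
      (Algebra.FinitePresentation.trans A (A ⧸ Ideal.span (range (e.symm i).1.g)) _)
  · have key : ∀ C : PrimeSpectrum.BasicConstructibleSetData A, range (PrimeSpectrum.comap
        (algebraMap A (Localization.Away (Ideal.Quotient.mk (Ideal.span (range C.g)) C.f)))) =
          C.toSet := fun C => by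
      rw [IsScalarTower.algebraMap_eq A (A ⧸ Ideal.span (range C.g)), PrimeSpectrum.comap_comp,
        range_comp, PrimeSpectrum.localization_away_comap_range _
          (Ideal.Quotient.mk (Ideal.span (range C.g)) C.f),
        Ideal.Quotient.algebraMap_eq, ← PrimeSpectrum.comap_basicOpen,
        TopologicalSpace.Opens.coe_comap, ContinuousMap.coe_mk, image_preimage_eq_inter_range,
        range_comap_of_surjective _ _ Ideal.Quotient.mk_surjective,
        PrimeSpectrum.BasicConstructibleSetData.toSet, Set.sdiff_eq_compl_inter,
        PrimeSpectrum.basicOpen_eq_zeroLocus_compl, Ideal.mk_ker, PrimeSpectrum.zeroLocus_span]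
    ext x
    simp only [mem_iUnion, key, PrimeSpectrum.ConstructibleSetData.toSet, exists_prop]
    exact ⟨fun ⟨i, hi⟩ => ⟨_, (e.symm i).2, hi⟩,
      fun ⟨C, hC, hxC⟩ => ⟨e ⟨C, hC⟩, by rw [e.symm_apply_apply]; exact hxC⟩⟩

end GrothLib.Constr
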