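import Groth.Agent.Lib.Constr.Topology
import Groth.Agent.Lib.Constr.Affine
import Mathlib.AlgebraicGeometry.Limits

/-!
# Pro-constructible and constructible sets as images of affine schemes
-/

universe u

open Topology TopologicalSpace Set AlgebraicGeometry CategoryTheory Limits

namespace GrothLib.Constr

theorem eq_sInter_isConstructible_of_isClosed {α : Type*} [TopologicalSpace α] [CompactSpace α]
    [QuasiSeparatedSpace α] {E : Set α} (hE : IsClosed[constructibleTopology α] E) :
    E = ⋂₀ {s | IsConstructible s ∧ E ⊆ s} := by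
  refine subset_antisymm (subset_sInter fun s hs => hs.2) fun x hx => ?_
  by_contra hxE
  obtain ⟨T, hT, hxT, hTE⟩ := exists_isConstructible_of_isOpen hE.isOpen_compl hxE
  exact mem_sInter.1 hx Tᶜ ⟨hT.compl, fun y hy hyT => hTE hyT hy⟩ hxT

theorem isClosed_sInter_isConstructible {α : Type*} [TopologicalSpace α] [CompactSpace α]
    {S : Set (Set α)} (hS : ∀ s ∈ S, IsConstructible s) :
    IsClosed[constructibleTopology α] (⋂₀ S) :=
  @isClosed_sInter α (constructibleTopology α) S fun s hs =>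
    isClosed_constructibleTopology_of_isConstructible (hS s hs)

theorem exists_sigma_eq {σ : Type u} (T : σ → Scheme.{u}) (z : (∐ T : Scheme.{u})) :
    ∃ i y, (Sigma.ι T i) y = z :=
  (sigmaOpenCover T).exists_eq z

variable {X : Scheme.{u}}

theorem exists_finite_chart [CompactSpace X] :
    ∃ (ι : Type u) (_ : Finite ι) (R : ι → CommRingCat.{u}) (j : ∀ i, Spec (R i) ⟶ X),
      (∀ i, IsOpenImmersion (j i)) ∧ ⋃ i, range (j i).base = univ := by
  let 𝒰 := X.affineCover.finiteSubcover
  haveI : ∀ i, IsAffine (𝒰.X i) := fun i => by dsimp [𝒰]; infer_instance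
  refine ⟨_, inferInstance, fun i => Γ(𝒰.X i, ⊤), fun i => (𝒰.X i).isoSpec.inv ≫ 𝒰.f i,
    fun i => inferInstance, eq_univ_of_forall fun x => ?_⟩
  obtain ⟨i, y, hy⟩ := 𝒰.exists_eq x
  refine mem_iUnion.2 ⟨i, (𝒰.X i).isoSpec.hom y, ?_⟩
  rw [← Scheme.Hom.comp_apply, Iso.hom_inv_id_assoc, hy]

theorem exists_isAffine_range_eq_of_isProConstructible [CompactSpace X] {E : Set X}
    (hE : ProCons.IsProConstructible E) :
    ∃ (X' : Scheme.{u}) (f : X' ⟶ X), IsAffine X' ∧ range f.base = E := by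
  obtain ⟨ι, _, R, j, hj, hcov⟩ := exists_finite_chart (X := X)
  have hc : ∀ i, IsClosed[constructibleTopology (PrimeSpectrum (R i))] ((j i).base ⁻¹' E) := by
    intro i
    haveI : CompactSpace (Spec (R i)) := inferInstance
    haveI : QuasiSeparatedSpace (Spec (R i)) := inferInstance
    exact isClosed_constructibleTopology_iff_isProConstructible.2
      (isProConstructible_preimage (j i) hE)
  choose B hB f hf using fun i => exists_range_comap_eq_iff.2 (hc i)
  letI := hB
  refine ⟨∐ fun i => Spec (CommRingCat.of (B i)),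
    Sigma.desc fun i => Spec.map (CommRingCat.ofHom (f i)) ≫ j i, inferInstance, ?_⟩
  ext x
  constructor
  · rintro ⟨z, rfl⟩
    obtain ⟨i, y, rfl⟩ := exists_sigma_eq (fun i => Spec (CommRingCat.of (B i))) z
    have hy : Spec.map (CommRingCat.ofHom (f i)) y ∈ (j i).base ⁻¹' E := hf i ▸ ⟨y, rfl⟩
    rw [mem_preimage] at hy
    convert hy using 1
    rw [← Scheme.Hom.comp_apply, Sigma.ι_desc]
    rfl
  · intro hx
    obtain ⟨i, y, rfl⟩ := mem_iUnion.1 (hcov.ge (mem_univ x))
    obtain ⟨q, hq⟩ := (hf i).ge (show y ∈ (j i).base ⁻¹' E from hx)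
    refine ⟨Sigma.ι (fun i => Spec (CommRingCat.of (B i))) i q, ?_⟩
    rw [← Scheme.Hom.comp_apply, Sigma.ι_desc]
    exact congrArg (j i).base hq

theorem exists_isAffine_locallyOfFinitePresentation_range_eq [CompactSpace X]
    [QuasiSeparatedSpace X] {Z : Set X} (hZ : IsConstructible Z) :
    ∃ (X' : Scheme.{u}) (f : X' ⟶ X), IsAffine X' ∧ LocallyOfFinitePresentation f ∧
      QuasiCompact f ∧ QuasiSeparated f ∧ range f.base = Z := by
  obtain ⟨ι, _, R, j, hj, hcov⟩ := exists_finite_chart (X := X)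
  choose κ hκ S hS f hf hrange using fun i =>
    exists_finitePresentation_range_eq (A := R i) (hZ.preimage_of_isOpenEmbedding (j i).isOpenEmbedding)
  letI : ∀ i j, CommRing (S i j) := hS
  let T : (Σ i, κ i) → Scheme.{u} := fun q => Spec (CommRingCat.of (S q.1 q.2))
  let e := Finite.equivFin (Σ i, κ i)
  let T' : ULift.{u} (Fin (Nat.card (Σ i, κ i))) → Scheme.{u} := fun n => T (e.symm n.down)
  let g : ∀ n, T' n ⟶ X := fun n =>
    Spec.map (CommRingCat.ofHom (f (e.symm n.down).1 (e.symm n.down).2)) ≫ j (e.symm n.down).1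
  haveI : ∀ n, IsAffine (T' n) := fun n => inferInstanceAs (IsAffine (Spec _))
  haveI : LocallyOfFinitePresentation (Sigma.desc g) := by
    rw [IsZariskiLocalAtSource.iff_of_openCover (P := @LocallyOfFinitePresentation) (sigmaOpenCover T')]
    intro n
    change LocallyOfFinitePresentation (Sigma.ι T' (n : ULift.{u} (Fin _)) ≫ Sigma.desc g)
    erw [Sigma.ι_desc]
    haveI : LocallyOfFinitePresentation
        (Spec.map (CommRingCat.ofHom (f (e.symm n.down).1 (e.symm n.down).2))) :=
      (HasRingHomProperty.Spec_iff (P := @LocallyOfFinitePresentation)).2 (hf _ _)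
    infer_instance
  refine ⟨∐ T', Sigma.desc g, inferInstance, inferInstance, inferInstance, inferInstance, ?_⟩
  ext x
  constructor
  · rintro ⟨z, rfl⟩
    obtain ⟨n, y, rfl⟩ := exists_sigma_eq T' z
    have hy : Spec.map (CommRingCat.ofHom (f (e.symm n.down).1 (e.symm n.down).2)) y ∈
        (j (e.symm n.down).1).base ⁻¹' Z :=
      hrange (e.symm n.down).1 ▸ mem_iUnion.2 ⟨_, y, rfl⟩
    rw [mem_preimage] at hy
    convert hy using 1
    rw [← Scheme.Hom.comp_apply, Sigma.ι_desc]
    rfl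
  · intro hx
    obtain ⟨i, y, rfl⟩ := mem_iUnion.1 (hcov.ge (mem_univ x))
    obtain ⟨k, q, hq⟩ := mem_iUnion.1 ((hrange i).ge (show y ∈ (j i).base ⁻¹' Z from hx))
    obtain ⟨n, hn⟩ : ∃ n, e.symm (ULift.down n) = ⟨i, k⟩ :=
      ⟨⟨e ⟨i, k⟩⟩, e.symm_apply_apply _⟩
    obtain ⟨q', hq'⟩ : ∃ q', g n q' = j i y := by
      change ∃ q', (Spec.map (CommRingCat.ofHom (f (e.symm n.down).1 (e.symm n.down).2)) ≫
        j (e.symm n.down).1) q' = j i y
      rw [hn]
      exact ⟨q, congrArg (j i).base hq⟩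
    refine ⟨Sigma.ι T' n q', ?_⟩
    rw [← Scheme.Hom.comp_apply, Sigma.ι_desc]
    exact hq'

end GrothLib.Constr
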