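import Groth.Agent.Lib.Constr.Basic
import Mathlib.AlgebraicGeometry.Morphisms.FinitePresentation
import Mathlib.AlgebraicGeometry.Morphisms.QuasiSeparated
import Mathlib.AlgebraicGeometry.Properties

/-!
# Pro- and ind-constructible subsets of schemes
-/

universe u

open Topology TopologicalSpace Set AlgebraicGeometry CategoryTheory

namespace GrothLib.Constr

variable {X Y : Scheme.{u}}

theorem compactSpace_of_isAffineOpen {V : X.Opens} (hV : IsAffineOpen V) : CompactSpace (V : Set X) :=
  isCompact_iff_compactSpace.1 hV.isCompact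

theorem quasiSeparatedSpace_of_isAffineOpen {V : X.Opens} (hV : IsAffineOpen V) :
    QuasiSeparatedSpace (V : Set X) :=
  (isQuasiSeparated_iff_quasiSeparatedSpace _ V.2).1 hV.isQuasiSeparated

theorem exists_affine_nhd (x : X) {U : Set X} (hU : IsOpen U) (hx : x ∈ U) :
    ∃ V : X.Opens, IsAffineOpen V ∧ x ∈ V ∧ (V : Set X) ⊆ U := by
  obtain ⟨V, hV, hxV, hVU⟩ := exists_isAffineOpen_mem_and_subset (U := ⟨U, hU⟩) hx
  exact ⟨V, hV, hxV, hVU⟩

instance prespectralSpace_opens (V : X.Opens) : PrespectralSpace (V : Set X) :=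
  inferInstanceAs (PrespectralSpace V.toScheme)

instance quasiSober_opens (V : X.Opens) : QuasiSober (V : Set X) :=
  inferInstanceAs (QuasiSober V.toScheme)

/-- Around a point, a locally constructible piece gives a constructible piece of any quasi-compact
quasi-separated open neighbourhood. -/
theorem exists_isConstructible_of_piece (V : X.Opens) [CompactSpace (V : Set X)] [QuasiSeparatedSpace (V : Set X)]
    {U : Set X} (hU : IsOpen U) {T : Set X}
    (hT : IsLocallyConstructible (Subtype.val ⁻¹' T : Set U)) {x : X} (hxU : x ∈ U) (hxT : x ∈ T)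
    (hxV : x ∈ V) :
    ∃ T' : Set (V : Set X), IsConstructible T' ∧ (⟨x, hxV⟩ : (V : Set X)) ∈ T' ∧ T' ⊆ Subtype.val ⁻¹' T := by
  obtain ⟨W, ⟨hWo, hWc⟩, hxW, hWU⟩ :=
    PrespectralSpace.isTopologicalBasis.exists_subset_of_mem_open
      (show (⟨x, hxV⟩ : (V : Set X)) ∈ (Subtype.val ⁻¹' U : Set (V : Set X)) from hxU) (hU.preimage continuous_subtype_val)
  haveI : CompactSpace W := isCompact_iff_compactSpace.1 hWc
  haveI : QuasiSeparatedSpace W := hWo.isOpenEmbedding_subtypeVal.quasiSeparatedSpace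
  haveI : PrespectralSpace W := hWo.isOpenEmbedding_subtypeVal.prespectralSpace
  let g : W → U := fun w => ⟨w.1.1, hWU w.2⟩
  have hg : IsOpenEmbedding g := by
    refine .of_comp _ hU.isOpenEmbedding_subtypeVal ?_
    exact V.2.isOpenEmbedding_subtypeVal.comp hWo.isOpenEmbedding_subtypeVal
  have hc := (hT.preimage_of_isOpenEmbedding hg).isConstructible
  refine ⟨Subtype.val '' (g ⁻¹' (Subtype.val ⁻¹' T)), hc.image_of_isOpenEmbedding
    hWo.isOpenEmbedding_subtypeVal (by simpa using hWc.isRetrocompact hWo), ⟨⟨⟨x, hxV⟩, hxW⟩, hxT, rfl⟩,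
    ?_⟩
  rintro _ ⟨w, hw, rfl⟩
  exact hw

theorem isOpen_preimage_of_isIndConstructible {E : Set X} (hE : ProCons.IsIndConstructible E)
    (V : X.Opens) [CompactSpace (V : Set X)] [QuasiSeparatedSpace (V : Set X)] :
    IsOpen[constructibleTopology (V : Set X)] (Subtype.val ⁻¹' E : Set (V : Set X)) := by
  rw [isOpen_constructibleTopology_iff]
  intro x hx
  obtain ⟨U, hU, hxU, T, hxT, hTE, hT⟩ := exists_piece_of_isIndConstructible hE hx
  obtain ⟨T', hT', hxT', hT'T⟩ := exists_isConstructible_of_piece V hU hT hxU hxT x.2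
  exact ⟨T', hT', hxT', hT'T.trans (preimage_mono hTE)⟩

theorem isClosed_preimage_of_isProConstructible {E : Set X} (hE : ProCons.IsProConstructible E)
    (V : X.Opens) [CompactSpace (V : Set X)] [QuasiSeparatedSpace (V : Set X)] :
    IsClosed[constructibleTopology (V : Set X)] (Subtype.val ⁻¹' E : Set (V : Set X)) :=
  @IsClosed.mk _ (constructibleTopology (V : Set X)) _
    (isOpen_preimage_of_isIndConstructible (isProConstructible_iff_compl.1 hE) V)

theorem isIndConstructible_of_pieces {E : Set X}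
    (h : ∀ x ∈ E, ∃ U : Set X, IsOpen U ∧ x ∈ U ∧ ∃ T : Set X, x ∈ T ∧ T ⊆ E ∧
      IsLocallyConstructible (Subtype.val ⁻¹' T : Set U)) :
    ProCons.IsIndConstructible E := by
  intro x
  obtain ⟨V, hV, hxV, -⟩ := exists_affine_nhd x isOpen_univ (mem_univ x)
  haveI := compactSpace_of_isAffineOpen hV
  haveI := quasiSeparatedSpace_of_isAffineOpen hV
  refine ⟨V, V.2, hxV, {T | IsLocallyConstructible T ∧ T ⊆ Subtype.val ⁻¹' E}, fun T hT => hT.1,
    subset_antisymm (fun y hy => ?_) (sUnion_subset fun T hT => hT.2)⟩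
  obtain ⟨U, hU, hyU, T, hyT, hTE, hT⟩ := h y hy
  obtain ⟨T', hT', hyT', hT'T⟩ := exists_isConstructible_of_piece V hU hT hyU hyT y.2
  exact ⟨T', ⟨hT'.isLocallyConstructible, hT'T.trans (preimage_mono hTE)⟩, hyT'⟩

theorem isIndConstructible_of_forall_mem {E : Set X}
    (h : ∀ x ∈ E, ∃ V : X.Opens, x ∈ V ∧ CompactSpace (V : Set X) ∧ QuasiSeparatedSpace (V : Set X) ∧
      IsOpen[constructibleTopology (V : Set X)] (Subtype.val ⁻¹' E : Set (V : Set X))) :
    ProCons.IsIndConstructible E := by
  refine isIndConstructible_of_pieces fun x hx => ?_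
  obtain ⟨V, hxV, _, _, hV⟩ := h x hx
  obtain ⟨T, hT, hxT, hTE⟩ := exists_isConstructible_of_isOpen hV (x := (⟨x, hxV⟩ : (V : Set X))) hx
  refine ⟨V, V.2, hxV, Subtype.val '' T, ⟨_, hxT, rfl⟩, image_subset_iff.2 hTE, ?_⟩
  exact (preimage_image_eq T Subtype.val_injective).symm ▸ hT.isLocallyConstructible

theorem isLocallyConstructible_iff_ind_and_pro {E : Set X} :
    IsLocallyConstructible E ↔
      ProCons.IsIndConstructible E ∧ ProCons.IsProConstructible E := by
  refine ⟨fun h => ⟨isIndConstructible_of_isLocallyConstructible h,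
    isProConstructible_of_isLocallyConstructible h⟩, fun ⟨hi, hp⟩ x => ?_⟩
  obtain ⟨V, hV, hxV, -⟩ := exists_affine_nhd x isOpen_univ (mem_univ x)
  haveI := compactSpace_of_isAffineOpen hV
  haveI := quasiSeparatedSpace_of_isAffineOpen hV
  exact ⟨V, V.2.mem_nhds hxV, V.2, isConstructible_iff_isClopen.2
    ⟨isOpen_preimage_of_isIndConstructible hi V, isClosed_preimage_of_isProConstructible hp V⟩⟩

theorem isProConstructible_of_forall {E : Set X}
    (h : ∀ x : X, ∃ V : X.Opens, x ∈ V ∧ CompactSpace (V : Set X) ∧ QuasiSeparatedSpace (V : Set X) ∧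
      IsClosed[constructibleTopology (V : Set X)] (Subtype.val ⁻¹' E : Set (V : Set X))) :
    ProCons.IsProConstructible E := by
  refine isProConstructible_iff_compl.2 (isIndConstructible_of_forall_mem fun x _ => ?_)
  obtain ⟨V, hxV, h1, h2, hV⟩ := h x
  exact ⟨V, hxV, h1, h2, (@IsClosed.isOpen_compl _ (constructibleTopology (V : Set X)) _ hV)⟩

section morphism

variable (f : X ⟶ Y)

theorem continuous_constructibleTopology [CompactSpace X] [CompactSpace Y] [QuasiSeparatedSpace Y] :
    @Continuous X Y (constructibleTopology X) (constructibleTopology Y) f := by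
  refine @Continuous.mk X Y (constructibleTopology X) (constructibleTopology Y) _ fun s hs => ?_
  refine (@isOpen_iff_forall_mem_open X (constructibleTopology X) _).2 fun x hx => ?_
  obtain ⟨T, hT, hxT, hTs⟩ := exists_isConstructible_of_isOpen hs hx
  exact ⟨f ⁻¹' T, preimage_mono hTs,
    (isOpen_constructibleTopology_of_isConstructible (f.isConstructible_preimage hT)).1, hxT⟩

theorem exists_resLE (x : X) {U : Set Y} (hU : IsOpen U) (hx : f x ∈ U) :
    ∃ (V : Y.Opens) (W : X.Opens) (_ : W ≤ f ⁻¹ᵁ V), IsAffineOpen V ∧ IsAffineOpen W ∧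
      f x ∈ V ∧ x ∈ W ∧ (V : Set Y) ⊆ U := by
  obtain ⟨V, hV, hxV, hVU⟩ := exists_affine_nhd (f x) hU hx
  obtain ⟨W, hW, hxW, hWV⟩ := exists_affine_nhd x (f ⁻¹ᵁ V).2 hxV
  exact ⟨V, W, hWV, hV, hW, hxV, hxW, hVU⟩

theorem preimage_resLE (V : Y.Opens) (W : X.Opens) (e : W ≤ f ⁻¹ᵁ V) (E : Set Y) :
    (f.resLE V W e) ⁻¹' (Subtype.val ⁻¹' E) = (Subtype.val ⁻¹' (f ⁻¹' E) : Set (W : Set X)) := by
  ext x
  exact iff_of_eq (congrArg (· ∈ E) (Scheme.Hom.coe_resLE_apply f e x))

theorem isIndConstructible_preimage {E : Set Y} (hE : ProCons.IsIndConstructible E) :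
    ProCons.IsIndConstructible (f ⁻¹' E) := by
  refine isIndConstructible_of_forall_mem fun x hx => ?_
  obtain ⟨V, W, e, hV, hW, -, hxW, -⟩ := exists_resLE f x isOpen_univ (mem_univ _)
  haveI := compactSpace_of_isAffineOpen hV
  haveI := quasiSeparatedSpace_of_isAffineOpen hV
  haveI := compactSpace_of_isAffineOpen hW
  refine ⟨W, hxW, inferInstance, quasiSeparatedSpace_of_isAffineOpen hW, ?_⟩
  rw [← preimage_resLE f V W e E]
  haveI : CompactSpace W.toScheme := compactSpace_of_isAffineOpen hW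
  haveI : CompactSpace V.toScheme := compactSpace_of_isAffineOpen hV
  haveI : QuasiSeparatedSpace V.toScheme := quasiSeparatedSpace_of_isAffineOpen hV
  exact @Continuous.isOpen_preimage _ _ (constructibleTopology W.toScheme)
    (constructibleTopology V.toScheme) _ (continuous_constructibleTopology (f.resLE V W e)) _
    (isOpen_preimage_of_isIndConstructible hE V)

theorem isProConstructible_preimage {E : Set Y} (hE : ProCons.IsProConstructible E) :
    ProCons.IsProConstructible (f ⁻¹' E) :=
  isProConstructible_iff_compl.2 <| by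
    rw [← preimage_compl]
    exact isIndConstructible_preimage f (isProConstructible_iff_compl.1 hE)

theorem isLocallyConstructible_preimage {E : Set Y} (hE : IsLocallyConstructible E) :
    IsLocallyConstructible (f ⁻¹' E) :=
  isLocallyConstructible_iff_ind_and_pro.2
    ⟨isIndConstructible_preimage f (isIndConstructible_of_isLocallyConstructible hE),
      isProConstructible_preimage f (isProConstructible_of_isLocallyConstructible hE)⟩

theorem isIndConstructible_image [LocallyOfFinitePresentation f] {E : Set X}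
    (hE : ProCons.IsIndConstructible E) : ProCons.IsIndConstructible (f '' E) := by
  refine isIndConstructible_of_pieces ?_
  rintro _ ⟨x, hx, rfl⟩
  obtain ⟨U, hU, hxU, T, hxT, hTE, hT⟩ := exists_piece_of_isIndConstructible hE hx
  obtain ⟨V, W, e, hV, hW, hxV, hxW, -⟩ := exists_resLE f x isOpen_univ (mem_univ _)
  haveI := compactSpace_of_isAffineOpen hW
  haveI := quasiSeparatedSpace_of_isAffineOpen hW
  obtain ⟨T', hT', hxT', hT'T⟩ := exists_isConstructible_of_piece W hU hT hxU hxT hxW
  haveI : CompactSpace W.toScheme := compactSpace_of_isAffineOpen hW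
  haveI : CompactSpace V.toScheme := compactSpace_of_isAffineOpen hV
  haveI : QuasiSeparatedSpace V.toScheme := quasiSeparatedSpace_of_isAffineOpen hV
  haveI : LocallyOfFinitePresentation (f.resLE V W e) := by
    rw [Scheme.Hom.resLE]; infer_instance
  have hc := (f.resLE V W e).isConstructible_image hT'
  refine ⟨V, V.2, hxV, Subtype.val '' (f.resLE V W e '' T'),
    ⟨_, ⟨_, hxT', rfl⟩, Scheme.Hom.coe_resLE_apply f e ⟨x, hxW⟩⟩, ?_, ?_⟩
  · rintro _ ⟨_, ⟨w, hw, rfl⟩, rfl⟩
    exact ⟨w.1, hTE (hT'T hw), (Scheme.Hom.coe_resLE_apply f e w).symm⟩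
  · exact (preimage_image_eq _ Subtype.val_injective).symm ▸ hc.isLocallyConstructible

theorem isProConstructible_image [QuasiCompact f] {E : Set X}
    (hE : ProCons.IsProConstructible E) : ProCons.IsProConstructible (f '' E) := by
  refine isProConstructible_of_forall fun y => ?_
  obtain ⟨V, hV, hyV, -⟩ := exists_affine_nhd y isOpen_univ (mem_univ y)
  haveI := compactSpace_of_isAffineOpen hV
  haveI := quasiSeparatedSpace_of_isAffineOpen hV
  refine ⟨V, hyV, inferInstance, inferInstance, ?_⟩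
  have hc : IsCompact ((f ⁻¹ᵁ V : X.Opens) : Set X) := f.isCompact_preimage hV.isCompact
  choose W hW hxW hWV using fun x : (f ⁻¹ᵁ V : X.Opens) => exists_affine_nhd x.1 (f ⁻¹ᵁ V).2 x.2
  obtain ⟨t, ht⟩ := hc.elim_finite_subcover (fun x => (W x : Set X)) (fun x => (W x).2)
    (fun x hx => mem_iUnion.2 ⟨⟨x, hx⟩, hxW ⟨x, hx⟩⟩)
  have he : (Subtype.val ⁻¹' (f '' E) : Set (V : Set Y)) =
      ⋃ i ∈ t, f.resLE V (W i) (hWV i) '' (Subtype.val ⁻¹' E) := by
    ext z
    constructor
    · rintro ⟨x, hx, hxz⟩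
      obtain ⟨i, hi, hxi⟩ := mem_iUnion₂.1 (ht (show x ∈ f ⁻¹' (V : Set Y) by
        rw [mem_preimage, hxz]; exact z.2))
      exact mem_iUnion₂.2 ⟨i, hi, (⟨x, hxi⟩ : (W i : Set X)), hx,
        Subtype.ext ((Scheme.Hom.coe_resLE_apply f _ _).trans hxz)⟩
    · intro h
      obtain ⟨i, -, x, hx, rfl⟩ := mem_iUnion₂.1 h
      exact ⟨x.1, hx, (Scheme.Hom.coe_resLE_apply f _ _).symm⟩
  rw [he]
  refine @Set.Finite.isClosed_biUnion _ _ (constructibleTopology (V : Set Y)) _ _ t.finite_toSet fun i _ => ?_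
  haveI := compactSpace_of_isAffineOpen (hW i)
  haveI := quasiSeparatedSpace_of_isAffineOpen (hW i)
  haveI : CompactSpace (W i).toScheme := compactSpace_of_isAffineOpen (hW i)
  haveI : QuasiSeparatedSpace (W i).toScheme := quasiSeparatedSpace_of_isAffineOpen (hW i)
  haveI : CompactSpace V.toScheme := compactSpace_of_isAffineOpen hV
  haveI : QuasiSeparatedSpace V.toScheme := quasiSeparatedSpace_of_isAffineOpen hV
  haveI : T0Space (V : Set Y) := inferInstanceAs (T0Space V.toScheme)
  exact @IsCompact.isClosed _ (constructibleTopology (V : Set Y)) t2Space_constructibleTopology _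
    (@IsCompact.image _ _ (constructibleTopology (W i).toScheme) (constructibleTopology V.toScheme) _ _
      (isCompact_constructibleTopology_of_isClosed
        (isClosed_preimage_of_isProConstructible hE (W i)))
      (continuous_constructibleTopology _))

end morphism

/-- Compactness: a pro-constructible set covered by ind-constructible sets in a quasi-compact
scheme is covered by finitely many of them. -/
theorem exists_finite_subcover [CompactSpace X] {F : Set X} (hF : ProCons.IsProConstructible F)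
    {ι : Type*} {E : ι → Set X} (hE : ∀ i, ProCons.IsIndConstructible (E i)) (h : F ⊆ ⋃ i, E i) :
    ∃ J : Finset ι, F ⊆ ⋃ i ∈ J, E i := by
  classical
  choose W hW hxW hWU using fun x : X => exists_affine_nhd x isOpen_univ (mem_univ x)
  obtain ⟨t, ht⟩ := isCompact_univ.elim_finite_subcover (fun x => (W x : Set X)) (fun x => (W x).2)
    (fun x _ => mem_iUnion.2 ⟨x, hxW x⟩)
  have : ∀ w, ∃ J : Finset ι, (Subtype.val ⁻¹' F : Set (W w : Set X)) ⊆
      ⋃ i ∈ J, (Subtype.val ⁻¹' E i : Set (W w : Set X)) := fun w => by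
    haveI := compactSpace_of_isAffineOpen (hW w)
    haveI := quasiSeparatedSpace_of_isAffineOpen (hW w)
    refine @IsCompact.elim_finite_subcover _ (constructibleTopology (W w : Set X)) _ _
      (isCompact_constructibleTopology_of_isClosed (isClosed_preimage_of_isProConstructible hF _)) _
      (fun i => isOpen_preimage_of_isIndConstructible (hE i) _) ?_
    rw [← preimage_iUnion]; exact preimage_mono h
  choose J hJ using this
  refine ⟨t.biUnion J, fun x hx => ?_⟩
  obtain ⟨w, hw, hxw⟩ := mem_iUnion₂.1 (ht (mem_univ x))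
  obtain ⟨i, hi, hxi⟩ := mem_iUnion₂.1 (hJ w (show (⟨x, hxw⟩ : (W w : Set X)) ∈ Subtype.val ⁻¹' F from hx))
  exact mem_iUnion₂.2 ⟨i, Finset.mem_biUnion.2 ⟨w, hw, hi⟩, hxi⟩

theorem exists_finite_subfamily [CompactSpace X] {E : Set X} (hE : ProCons.IsIndConstructible E)
    {ι : Type*} {F : ι → Set X} (hF : ∀ i, ProCons.IsProConstructible (F i)) (h : ⋂ i, F i ⊆ E) :
    ∃ J : Finset ι, ⋂ i ∈ J, F i ⊆ E := by
  obtain ⟨J, hJ⟩ := exists_finite_subcover (F := Eᶜ) (isIndConstructible_iff_compl.1 hE)
    (fun i => isProConstructible_iff_compl.1 (hF i))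
    (by rw [← compl_iInter]; exact compl_subset_compl.2 h)
  refine ⟨J, ?_⟩
  rw [← compl_subset_compl]
  simpa only [compl_iInter] using hJ

theorem isIndConstructible_of_isOpen {U : Set X} (hU : IsOpen U) :
    ProCons.IsIndConstructible U :=
  isIndConstructible_of_pieces fun _ hx => ⟨U, hU, hx, U, hx, Subset.rfl, by
    rw [Subtype.coe_preimage_self]; exact IsLocallyConstructible.univ⟩

theorem mem_interior_iff {E : Set X} (hE : ProCons.IsIndConstructible E) {x : X} :
    x ∈ interior E ↔ ∀ x', x' ⤳ x → x' ∈ E := by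
  refine ⟨fun h x' hx' => interior_subset (hx'.mem_open isOpen_interior h), fun h => ?_⟩
  obtain ⟨V, hV, hxV, -⟩ := exists_affine_nhd x isOpen_univ (mem_univ x)
  haveI := compactSpace_of_isAffineOpen hV
  haveI := quasiSeparatedSpace_of_isAffineOpen hV
  let ι := {W : Set (V : Set X) // IsOpen W ∧ IsCompact W ∧ (⟨x, hxV⟩ : (V : Set X)) ∈ W}
  obtain ⟨J, hJ⟩ := @IsCompact.elim_finite_subfamily_closed _ (constructibleTopology (V : Set X)) _ ι
    (isCompact_constructibleTopology_of_isClosed
      (@IsOpen.isClosed_compl _ (constructibleTopology (V : Set X)) _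
        (isOpen_preimage_of_isIndConstructible hE V))) (fun W => W.1)
    (fun W => isClosed_constructibleTopology_of_isConstructible (W.2.2.1.isConstructible W.2.1))
    (by
      rw [eq_empty_iff_forall_notMem]
      rintro z ⟨hz, hz'⟩
      refine hz (h z.1 ?_)
      rw [specializes_iff_forall_open]
      intro O hO hxO
      obtain ⟨W, ⟨hWo, hWc⟩, hxW, hWO⟩ :=
        PrespectralSpace.isTopologicalBasis.exists_subset_of_mem_open
          (show (⟨x, hxV⟩ : (V : Set X)) ∈ (Subtype.val ⁻¹' O : Set (V : Set X)) from hxO) (hO.preimage continuous_subtype_val)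
      exact hWO (mem_iInter.1 hz' ⟨W, hWo, hWc, hxW⟩))
  refine mem_interior.2 ⟨Subtype.val '' (⋂ W ∈ J, (W.1 : Set (V : Set X))), ?_,
    V.2.isOpenMap_subtype_val _ (isOpen_biInter_finset fun W _ => W.2.1),
    ⟨⟨x, hxV⟩, mem_iInter₂.2 fun W _ => W.2.2.2, rfl⟩⟩
  rintro _ ⟨z, hz, rfl⟩
  by_contra hzE
  exact eq_empty_iff_forall_notMem.1 hJ z ⟨hzE, hz⟩

end GrothLib.Constr
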