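import Groth.Agent.Lib.Constr.Scheme
import Mathlib.Topology.Maps.Proper.CompactlyGenerated
import Mathlib.Topology.Separation.Connected

/-!
# The constructible topology of a quasi-separated scheme
-/

universe u

open Topology TopologicalSpace Set AlgebraicGeometry CategoryTheory

namespace GrothLib.Constr

variable {X Y : Scheme.{u}}

theorem exists_isConstructible_of_mem (V : X.Opens) [CompactSpace (V : Set X)]
    [QuasiSeparatedSpace (V : Set X)] {E : Set X} (hE : ProCons.IsIndConstructible E) {x : X}
    (hxV : x ∈ V) (hx : x ∈ E) :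
    ∃ T : Set (V : Set X), IsConstructible T ∧ (⟨x, hxV⟩ : (V : Set X)) ∈ T ∧
      T ⊆ Subtype.val ⁻¹' E :=
  exists_isConstructible_of_isOpen (isOpen_preimage_of_isIndConstructible hE V)
    (x := (⟨x, hxV⟩ : (V : Set X))) hx

theorem isIndConstructible_inter {E F : Set X} (hE : ProCons.IsIndConstructible E)
    (hF : ProCons.IsIndConstructible F) : ProCons.IsIndConstructible (E ∩ F) := by
  refine isIndConstructible_of_forall_mem fun x _ => ?_
  obtain ⟨V, hV, hxV, -⟩ := exists_affine_nhd x isOpen_univ (mem_univ x)
  haveI := compactSpace_of_isAffineOpen hV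
  haveI := quasiSeparatedSpace_of_isAffineOpen hV
  refine ⟨V, hxV, inferInstance, inferInstance, ?_⟩
  rw [preimage_inter]
  exact @IsOpen.inter _ (constructibleTopology (V : Set X)) _ _
    (isOpen_preimage_of_isIndConstructible hE V) (isOpen_preimage_of_isIndConstructible hF V)

theorem isOpen_image_of_isConstructible {V : Set X} (hVo : IsOpen V) (hVc : IsCompact V)
    {s : Set V} (hs : IsConstructible s) :
    IsOpen[constructibleTopology X] (Subtype.val '' s) ∧
      IsOpen[constructibleTopology X] (Subtype.val '' sᶜ) := by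
  haveI : CompactSpace V := isCompact_iff_compactSpace.1 hVc
  induction hs using IsConstructible.empty_union_induction with
  | open_retrocompact U hUo hUc =>
    have h1 : IsCompact (Subtype.val '' U) := hUc.isCompact.image continuous_subtype_val
    have h2 : IsOpen (Subtype.val '' U) := hVo.isOpenMap_subtype_val _ hUo
    refine ⟨h1.isOpen_constructibleTopology_of_isOpen h2, ?_⟩
    rw [image_compl_eq_range_sdiff_image Subtype.val_injective, Subtype.range_coe, sdiff_eq]
    exact @IsOpen.inter _ (constructibleTopology X) _ _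
      (hVc.isOpen_constructibleTopology_of_isOpen hVo)
      (IsCompact.isOpen_constructibleTopology_of_isClosed (by rw [compl_compl]; exact h1)
        h2.isClosed_compl)
  | union s hs t ht hs' ht' =>
    refine ⟨?_, ?_⟩
    · rw [image_union]; exact @IsOpen.union X _ _ (constructibleTopology X) hs'.1 ht'.1
    · rw [compl_union, image_inter Subtype.val_injective]
      exact @IsOpen.inter X (constructibleTopology X) _ _ hs'.2 ht'.2
  | compl s hs hs' => exact ⟨hs'.2, by rw [compl_compl]; exact hs'.1⟩

/-- On a quasi-separated scheme the open sets of the constructible topology are the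
ind-constructible sets. -/
theorem isOpen_constructibleTopology_iff_isIndConstructible [QuasiSeparatedSpace X] {E : Set X} :
    IsOpen[constructibleTopology X] E ↔ ProCons.IsIndConstructible E := by
  refine ⟨fun hE => ?_, fun hE => ?_⟩
  · induction hE with
    | basic s hs =>
      rcases hs with ⟨ho, hc⟩ | ⟨ho, hc⟩
      · exact isIndConstructible_of_isOpen ho
      · have h1 : IsLocallyConstructible sᶜ :=
          (hc.isRetrocompact ho.isOpen_compl).isLocallyConstructible ho.isOpen_compl
        have h2 := isLocallyConstructible_compl h1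
        rw [compl_compl] at h2
        exact isIndConstructible_of_isLocallyConstructible h2
    | univ => exact isIndConstructible_of_isOpen isOpen_univ
    | inter s t _ _ hs ht => exact isIndConstructible_inter hs ht
    | sUnion S _ ih =>
      refine isIndConstructible_of_pieces ?_
      rintro x ⟨t, ht, hxt⟩
      obtain ⟨U, hU, hxU, T, hxT, hTt, hT⟩ := exists_piece_of_isIndConstructible (ih t ht) hxt
      exact ⟨U, hU, hxU, T, hxT, hTt.trans (subset_sUnion_of_mem ht), hT⟩
  · refine (@isOpen_iff_forall_mem_open X (constructibleTopology X) _).2 fun x hx => ?_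
    obtain ⟨V, hV, hxV, -⟩ := exists_affine_nhd x isOpen_univ (mem_univ x)
    haveI := compactSpace_of_isAffineOpen hV
    haveI := quasiSeparatedSpace_of_isAffineOpen hV
    obtain ⟨T, hT, hxT, hTE⟩ := exists_isConstructible_of_mem V hE hxV hx
    exact ⟨Subtype.val '' T, image_subset_iff.2 hTE,
      (isOpen_image_of_isConstructible V.2 hV.isCompact hT).1, ⟨_, hxT, rfl⟩⟩

theorem isClosed_constructibleTopology_iff_isProConstructible [QuasiSeparatedSpace X] {E : Set X} :
    IsClosed[constructibleTopology X] E ↔ ProCons.IsProConstructible E :=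
  (@isOpen_compl_iff X E (constructibleTopology X)).symm.trans <|
    isOpen_constructibleTopology_iff_isIndConstructible.trans isProConstructible_iff_compl.symm

theorem isCompact_constructibleTopology_of_isOpen [QuasiSeparatedSpace X] {V : Set X}
    (hVo : IsOpen V) (hVc : IsCompact V) : @IsCompact X (constructibleTopology X) V := by
  refine @isCompact_of_finite_subcover X (constructibleTopology X) V fun {ι} U hU hVU => ?_
  haveI : CompactSpace V := isCompact_iff_compactSpace.1 hVc
  haveI : PrespectralSpace V := hVo.isOpenEmbedding_subtypeVal.prespectralSpace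
  haveI : QuasiSober V := hVo.isOpenEmbedding_subtypeVal.quasiSober
  haveI : QuasiSeparatedSpace V := hVo.isOpenEmbedding_subtypeVal.quasiSeparatedSpace
  obtain ⟨J, hJ⟩ := @IsCompact.elim_finite_subcover _ (constructibleTopology V) (univ : Set V) ι
    (@isCompact_univ _ (constructibleTopology V) compactSpace_constructibleTopology)
    (fun i => Subtype.val ⁻¹' U i)
    (fun i => isOpen_preimage_of_isIndConstructible
      (isOpen_constructibleTopology_iff_isIndConstructible.1 (hU i)) ⟨V, hVo⟩)
    (by rw [← preimage_iUnion]; exact fun z _ => hVU z.2)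
  refine ⟨J, fun x hx => ?_⟩
  obtain ⟨i, hi, hxi⟩ := mem_iUnion₂.1 (hJ (mem_univ (⟨x, hx⟩ : V)))
  exact mem_iUnion₂.2 ⟨i, hi, hxi⟩

theorem exists_compact_open_nhd (x : X) :
    ∃ W : Set X, IsOpen W ∧ IsCompact W ∧ x ∈ W := by
  obtain ⟨V, hV, hxV, -⟩ := exists_affine_nhd x isOpen_univ (mem_univ x)
  exact ⟨V, V.2, hV.isCompact, hxV⟩

theorem locallyCompactSpace_constructibleTopology [QuasiSeparatedSpace X] :
    @LocallyCompactSpace X (constructibleTopology X) := by
  letI := constructibleTopology X
  haveI : T2Space X := @t2Space_constructibleTopology X X.carrier.str inferInstance inferInstance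
  haveI : WeaklyLocallyCompactSpace X := ⟨fun x => by
    obtain ⟨W, hWo, hWc, hxW⟩ := @exists_compact_open_nhd X x
    exact ⟨W, isCompact_constructibleTopology_of_isOpen hWo hWc,
      (@IsCompact.isOpen_constructibleTopology_of_isOpen X X.carrier.str W hWc hWo).mem_nhds hxW⟩⟩
  infer_instance

theorem totallyDisconnectedSpace_constructibleTopology :
    @TotallyDisconnectedSpace X (constructibleTopology X) := by
  have key : ∀ x y : X, x ≠ y → ∃ W : Set X, IsOpen W ∧ IsCompact W ∧ Xor' (x ∈ W) (y ∈ W) := by
    intro x y hxy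
    obtain ⟨U, hU, hUxy⟩ := exists_isOpen_xor_mem hxy
    rcases hUxy with ⟨h1, h2⟩ | ⟨h1, h2⟩
    · obtain ⟨W, ⟨hWo, hWc⟩, hxW, hWU⟩ :=
        PrespectralSpace.isTopologicalBasis.exists_subset_of_mem_open h1 hU
      exact ⟨W, hWo, hWc, Or.inl ⟨hxW, fun h => h2 (hWU h)⟩⟩
    · obtain ⟨W, ⟨hWo, hWc⟩, hxW, hWU⟩ :=
        PrespectralSpace.isTopologicalBasis.exists_subset_of_mem_open h1 hU
      exact ⟨W, hWo, hWc, Or.inr ⟨hxW, fun h => h2 (hWU h)⟩⟩
  have key' : ∀ x y : X, x ≠ y → ∃ W : Set X, @IsClopen X (constructibleTopology X) W ∧ x ∈ W ∧ y ∉ W := by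
    intro x y hxy
    obtain ⟨W, hWo, hWc, h⟩ := key x y hxy
    have h1 := hWc.isOpen_constructibleTopology_of_isOpen hWo
    have h2 : IsOpen[constructibleTopology X] Wᶜ :=
      IsCompact.isOpen_constructibleTopology_of_isClosed (by rw [compl_compl]; exact hWc)
        hWo.isClosed_compl
    rcases h with ⟨hx, hy⟩ | ⟨hy, hx⟩
    · exact ⟨W, ⟨@IsClosed.mk X (constructibleTopology X) W h2, h1⟩, hx, hy⟩
    · exact ⟨Wᶜ, ⟨@IsClosed.mk X (constructibleTopology X) Wᶜ (by rw [compl_compl]; exact h1), h2⟩,
        hx, fun h => h hy⟩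
  letI := constructibleTopology X
  haveI : TotallySeparatedSpace X := totallySeparatedSpace_iff_exists_isClopen.2 fun x y hxy => by
    obtain ⟨W, hW, hx, hy⟩ := key' x y hxy
    exact ⟨W, hW, hx, hy⟩
  infer_instance

end GrothLib.Constr
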