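import Groth.Prelude.Def_ProCons
import Mathlib.Topology.Spectral.ConstructibleTopology
import Mathlib.Topology.Constructible

/-!
# Constructible topology of quasi-compact quasi-separated prespectral sober spaces, and elementary
facts on pro- and ind-constructible sets
-/

open Topology TopologicalSpace Set

namespace GrothLib.Constr

variable {X : Type*} [TopologicalSpace X]

theorem preimage_sInter_compl {U : Set X} {E : Set X} {S : Set (Set U)}
    (h : (Subtype.val ⁻¹' E : Set U) = ⋂₀ S) :
    (Subtype.val ⁻¹' Eᶜ : Set U) = ⋃₀ (compl '' S) := by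
  rw [preimage_compl, h, compl_sInter]

theorem preimage_sUnion_compl {U : Set X} {E : Set X} {S : Set (Set U)}
    (h : (Subtype.val ⁻¹' E : Set U) = ⋃₀ S) :
    (Subtype.val ⁻¹' Eᶜ : Set U) = ⋂₀ (compl '' S) := by
  rw [preimage_compl, h, compl_sUnion]

theorem isLocallyConstructible_compl {s : Set X} (h : IsLocallyConstructible s) :
    IsLocallyConstructible sᶜ := fun x => by
  obtain ⟨U, hU, hUo, hUs⟩ := h x
  exact ⟨U, hU, hUo, by rw [preimage_compl]; exact hUs.compl⟩

theorem isProConstructible_iff_compl {E : Set X} :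
    ProCons.IsProConstructible E ↔ ProCons.IsIndConstructible Eᶜ := by
  constructor <;> intro h x <;> obtain ⟨U, hUo, hxU, S, hS, hES⟩ := h x <;>
    refine ⟨U, hUo, hxU, compl '' S, ?_, ?_⟩
  · rintro _ ⟨T, hT, rfl⟩; exact isLocallyConstructible_compl (hS T hT)
  · exact preimage_sInter_compl hES
  · rintro _ ⟨T, hT, rfl⟩; exact isLocallyConstructible_compl (hS T hT)
  · rw [← preimage_sUnion_compl hES, compl_compl]

theorem isIndConstructible_iff_compl {E : Set X} :
    ProCons.IsIndConstructible E ↔ ProCons.IsProConstructible Eᶜ := by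
  rw [isProConstructible_iff_compl, compl_compl]

theorem isIndConstructible_of_isLocallyConstructible {E : Set X} (h : IsLocallyConstructible E) :
    ProCons.IsIndConstructible E := fun x => by
  obtain ⟨U, hU, hUo, hUs⟩ := h x
  refine ⟨U, hUo, mem_of_mem_nhds hU, {Subtype.val ⁻¹' E}, ?_, (sUnion_singleton _).symm⟩
  rintro T rfl
  exact hUs.isLocallyConstructible

theorem isProConstructible_of_isLocallyConstructible {E : Set X} (h : IsLocallyConstructible E) :
    ProCons.IsProConstructible E :=
  isProConstructible_iff_compl.2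
    (isIndConstructible_of_isLocallyConstructible (isLocallyConstructible_compl h))

/-- Around each point of an ind-constructible set there is a locally constructible piece of it. -/
theorem exists_piece_of_isIndConstructible {E : Set X} (h : ProCons.IsIndConstructible E) {x : X}
    (hx : x ∈ E) : ∃ U : Set X, IsOpen U ∧ x ∈ U ∧ ∃ T : Set X, x ∈ T ∧ T ⊆ E ∧
      IsLocallyConstructible (Subtype.val ⁻¹' T : Set U) := by
  obtain ⟨U, hUo, hxU, S, hS, hES⟩ := h x
  have hxS : (⟨x, hxU⟩ : U) ∈ ⋃₀ S := hES ▸ hx
  obtain ⟨T, hT, hxT⟩ := hxS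
  refine ⟨U, hUo, hxU, Subtype.val '' T, ⟨⟨x, hxU⟩, hxT, rfl⟩, ?_, ?_⟩
  · rintro _ ⟨y, hy, rfl⟩
    exact show y ∈ Subtype.val ⁻¹' E from hES ▸ ⟨T, hT, hy⟩
  · rw [preimage_image_eq _ Subtype.val_injective]
    exact hS T hT

section spectral

theorem isOpen_constructibleTopology_of_isConstructible [CompactSpace X] {s : Set X}
    (hs : IsConstructible s) :
    IsOpen[constructibleTopology X] s ∧ IsOpen[constructibleTopology X] sᶜ := by
  induction hs using IsConstructible.empty_union_induction with
  | open_retrocompact U hUo hUc =>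
    exact ⟨hUc.isCompact.isOpen_constructibleTopology_of_isOpen hUo,
      IsCompact.isOpen_constructibleTopology_of_isClosed (by rw [compl_compl]; exact hUc.isCompact)
        hUo.isClosed_compl⟩
  | union s hs t ht hs' ht' =>
    refine ⟨@IsOpen.union X _ _ (constructibleTopology X) hs'.1 ht'.1, ?_⟩
    rw [compl_union]; exact (constructibleTopology X).isOpen_inter _ _ hs'.2 ht'.2
  | compl s hs hs' => exact ⟨hs'.2, by rw [compl_compl]; exact hs'.1⟩

theorem isClosed_constructibleTopology_of_isConstructible [CompactSpace X] {s : Set X}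
    (hs : IsConstructible s) : IsClosed[constructibleTopology X] s :=
  @IsClosed.mk X (constructibleTopology X) _
    (isOpen_constructibleTopology_of_isConstructible hs).2

/-- Open sets of the constructible topology are unions of constructible sets. -/
theorem exists_isConstructible_of_isOpen [CompactSpace X] [QuasiSeparatedSpace X] {s : Set X}
    (hs : IsOpen[constructibleTopology X] s) {x : X} (hx : x ∈ s) :
    ∃ T, IsConstructible T ∧ x ∈ T ∧ T ⊆ s := by
  induction hs generalizing x with
  | basic s hs =>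
    refine ⟨s, ?_, hx, Subset.rfl⟩
    rcases hs with ⟨ho, hc⟩ | ⟨ho, hc⟩
    · exact hc.isConstructible ho
    · exact isConstructible_compl.1 (hc.isConstructible ho.isOpen_compl)
  | univ => exact ⟨univ, .univ, hx, Subset.rfl⟩
  | inter s t _ _ ih ih' =>
    obtain ⟨A, hA, hxA, hAs⟩ := ih hx.1
    obtain ⟨B, hB, hxB, hBt⟩ := ih' hx.2
    exact ⟨A ∩ B, hA.inter hB, ⟨hxA, hxB⟩, inter_subset_inter hAs hBt⟩
  | sUnion S _ ih =>
    obtain ⟨t, ht, hxt⟩ := hx
    obtain ⟨A, hA, hxA, hAs⟩ := ih t ht hxt
    exact ⟨A, hA, hxA, hAs.trans (subset_sUnion_of_mem ht)⟩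

theorem isOpen_constructibleTopology_iff [CompactSpace X] [QuasiSeparatedSpace X] {s : Set X} :
    IsOpen[constructibleTopology X] s ↔ ∀ x ∈ s, ∃ T, IsConstructible T ∧ x ∈ T ∧ T ⊆ s := by
  refine ⟨fun hs x hx => exists_isConstructible_of_isOpen hs hx, fun h => ?_⟩
  refine (@isOpen_iff_forall_mem_open X (constructibleTopology X) s).2 fun x hx => ?_
  obtain ⟨T, hT, hxT, hTs⟩ := h x hx
  exact ⟨T, hTs, (isOpen_constructibleTopology_of_isConstructible hT).1, hxT⟩

theorem compactSpace_constructibleTopology [CompactSpace X] [QuasiSober X] [PrespectralSpace X]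
    [QuasiSeparatedSpace X] : @CompactSpace X (constructibleTopology X) := by
  refine @CompactSpace.mk X (constructibleTopology X) ?_
  have h := @IsCompact.image _ X _ (constructibleTopology X)
    (univ : Set (WithConstructibleTopology X)) (WithTopology.ofTopology (t := constructibleTopology X))
    isCompact_univ (WithTopology.continuous_ofTopology _)
  rwa [image_univ, range_eq_univ.2 fun x => ⟨WithTopology.toTopology _ x, rfl⟩] at h

theorem isCompact_constructibleTopology_of_isClosed [CompactSpace X] [QuasiSober X]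
    [PrespectralSpace X] [QuasiSeparatedSpace X] {s : Set X}
    (hs : IsClosed[constructibleTopology X] s) : @IsCompact X (constructibleTopology X) s :=
  @IsClosed.isCompact X (constructibleTopology X) s compactSpace_constructibleTopology hs

theorem isConstructible_iff_isClopen [CompactSpace X] [QuasiSober X] [PrespectralSpace X]
    [QuasiSeparatedSpace X] {s : Set X} :
    IsConstructible s ↔
      IsOpen[constructibleTopology X] s ∧ IsClosed[constructibleTopology X] s := by
  refine ⟨fun h => ⟨(isOpen_constructibleTopology_of_isConstructible h).1,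
    isClosed_constructibleTopology_of_isConstructible h⟩, fun ⟨ho, hc⟩ => ?_⟩
  choose T hT hxT hTs using fun x : s => exists_isConstructible_of_isOpen ho x.2
  obtain ⟨t, ht⟩ := @IsCompact.elim_finite_subcover X (constructibleTopology X) s s
    (isCompact_constructibleTopology_of_isClosed hc) T
    (fun x => (isOpen_constructibleTopology_of_isConstructible (hT x)).1)
    (fun x hx => mem_iUnion.2 ⟨⟨x, hx⟩, hxT ⟨x, hx⟩⟩)
  have : s = ⋃ i ∈ (t : Set s), T i :=
    subset_antisymm ht (iUnion₂_subset fun i _ => hTs i)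
  rw [this]
  exact IsConstructible.biUnion t.finite_toSet fun i _ => hT i

theorem t2Space_constructibleTopology [T0Space X] [PrespectralSpace X] :
    @T2Space X (constructibleTopology X) := by
  refine @T2Space.mk X (constructibleTopology X) fun x y hxy => ?_
  obtain ⟨U, hU, hUxy⟩ := exists_isOpen_xor_mem hxy
  obtain ⟨a, b, ha, hb, hab⟩ : ∃ a b, a ∈ U ∧ b ∉ U ∧ ((a = x ∧ b = y) ∨ (a = y ∧ b = x)) := by
    rcases hUxy with ⟨h1, h2⟩ | ⟨h1, h2⟩
    exacts [⟨x, y, h1, h2, Or.inl ⟨rfl, rfl⟩⟩, ⟨y, x, h1, h2, Or.inr ⟨rfl, rfl⟩⟩]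
  obtain ⟨W, ⟨hWo, hWc⟩, haW, hWU⟩ :=
    PrespectralSpace.isTopologicalBasis.exists_subset_of_mem_open ha hU
  have h1 := hWc.isOpen_constructibleTopology_of_isOpen hWo
  have h2 : IsOpen[constructibleTopology X] Wᶜ :=
    IsCompact.isOpen_constructibleTopology_of_isClosed (by rw [compl_compl]; exact hWc)
      hWo.isClosed_compl
  rcases hab with ⟨rfl, rfl⟩ | ⟨rfl, rfl⟩
  · exact ⟨W, Wᶜ, h1, h2, haW, fun h => hb (hWU h), disjoint_compl_right⟩
  · exact ⟨Wᶜ, W, h2, h1, fun h => hb (hWU h), haW, disjoint_compl_left⟩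

theorem continuous_id_constructibleTopology [PrespectralSpace X] :
    @Continuous X X (constructibleTopology X) _ id := by
  refine @Continuous.mk X X (constructibleTopology X) _ id fun U hU => ?_
  refine (@isOpen_iff_forall_mem_open X (constructibleTopology X) _).2 fun x hx => ?_
  obtain ⟨W, ⟨hWo, hWc⟩, hxW, hWU⟩ :=
    PrespectralSpace.isTopologicalBasis.exists_subset_of_mem_open hx hU
  exact ⟨W, hWU, hWc.isOpen_constructibleTopology_of_isOpen hWo, hxW⟩

end spectral

end GrothLib.Constr
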